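import Cfsg.Agent.H428.GT.LbZero2

/-!
# `StLb0` (helper428), for S5211, III
-/

set_option autoImplicit false
set_option linter.unusedSimpArgs false

namespace Cfsg.Agent.H428.GT

open Cfsg Cfsg.FusionSystem Cfsg.Agent.H756.PU Cfsg.Agent.H779.G2

universe u

variable {K : Type u} [Field K]

theorem finite_Qb [Finite K] : Finite (Qb K) := by
  refine Finite.of_injective
    (fun g : Qb K => ((g : GU K).a, (g : GU K).c, (g : GU K).d, (g : GU K).e, (g : GU K).f)) ?_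
  intro g h e
  simp only [Prod.mk.injEq] at e
  exact qext e.1 e.2.1 e.2.2.1 e.2.2.2.1 e.2.2.2.2

theorem finite_MulAut [Finite K] : Finite (MulAut (Qb K)) := by
  have := finite_Qb (K := K)
  exact Finite.of_injective (fun γ : MulAut (Qb K) => (γ : Qb K → Qb K)) DFunLike.coe_injective

theorem three_End (h3 : (3 : K) = 0) : (3 : AddMonoid.End (K × K)) = 0 := by
  have h1 : ((3 : ℕ) : AddMonoid.End (K × K)) = 0 := by
    ext1 v
    rw [AddMonoid.End.natCast_apply]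
    show 3 • v = 0
    apply Prod.ext
    · show 3 • v.1 = 0
      rw [nsmul_eq_mul, Nat.cast_ofNat, h3, zero_mul]
    · show 3 • v.2 = 0
      rw [nsmul_eq_mul, Nat.cast_ofNat, h3, zero_mul]
  exact_mod_cast h1

namespace Hy

variable {Γ : Subgroup (MulAut (Qb K))} (H : Hy Γ)

include H

/-- **the elements of `Γ` trivial on `Q_b / Z₃` are inner** -/
theorem main1 {r : MulAut (Qb K)} (hr : r ∈ Γ) (ht : Tr r) : r ∈ Inn (Qb K) := by
  have h3 := H.three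
  have := H.fin
  have := finite_MulAut (K := K)
  obtain ⟨N, hN⟩ : ∃ N : Subgroup (MulAut (Qb K)), ∀ s, s ∈ N ↔ s ∈ Γ ∧ Tr s :=
    ⟨{ carrier := {s | s ∈ Γ ∧ Tr s}
       mul_mem' := fun h h' => ⟨mul_mem h.1 h'.1, Tr_mul h.2 h'.2⟩
       one_mem' := ⟨one_mem _, Tr_one⟩
       inv_mem' := fun h => ⟨inv_mem h.1, Tr_inv h.2⟩ }, fun _ => Iff.rfl⟩
  obtain ⟨x, hx⟩ : ∃ x : MulAut (Qb K), x = MulAut.conjNormal (⟨0, 1, 0, 0, 0, 0⟩ : GU K) := ⟨_, rfl⟩
  have hxΓ : x ∈ Γ := H.indu (mem_ind.2 ⟨_, hx⟩)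
  have hxv : ∀ v : K × K, act h3 x v = (v.1, v.2 + v.1) := by
    intro v
    rw [hx, act_cj]
    show (v.1, v.2 + 1 * v.1) = _
    rw [one_mul]
  have hX : ((rho h3 x : AddMonoid.End (K × K)) - 1) * ((rho h3 x : AddMonoid.End (K × K)) - 1) = 0 := by
    have h1 : ∀ v : K × K, ((rho h3 x : AddMonoid.End (K × K)) - 1) v = (0, v.1) := by
      intro v
      show act h3 x v - v = _
      rw [hxv]
      apply Prod.ext
      · simp
      · simp
    ext1 v
    show ((rho h3 x : AddMonoid.End (K × K)) - 1) (((rho h3 x : AddMonoid.End (K × K)) - 1) v) = 0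
    rw [h1, h1]
    rfl
  have hfin : Finite (N.map (rho h3)) := ((Set.toFinite (N : Set (MulAut (Qb K)))).image (rho h3)).to_subtype
  have hn : ∀ s ∈ N.map (rho h3), rho h3 x * s * (rho h3 x)⁻¹ ∈ N.map (rho h3) := by
    rintro _ ⟨s, hs, rfl⟩
    refine ⟨x * s * x⁻¹, ?_, by rw [map_mul, map_mul, map_inv]⟩
    have hs' := (hN s).1 hs
    exact (hN _).2 ⟨mul_mem (mul_mem hxΓ hs'.1) (inv_mem hxΓ), Tr_conj h3 hs'.2 x⟩
  have hn' : ∀ s ∈ N.map (rho h3), (rho h3 x)⁻¹ * s * rho h3 x ∈ N.map (rho h3) := by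
    rintro _ ⟨s, hs, rfl⟩
    refine ⟨x⁻¹ * s * x, ?_, by rw [map_mul, map_mul, map_inv]⟩
    have hs' := (hN s).1 hs
    refine (hN _).2 ⟨mul_mem (mul_mem (inv_mem hxΓ) hs'.1) hxΓ, ?_⟩
    have := Tr_conj h3 hs'.2 x⁻¹
    rwa [inv_inv] at this
  have hinn : ∀ s : MulAut (Qb K), s ∈ Inn (Qb K) → rho h3 s = 1 := by
    intro s hs
    apply Units.ext
    rw [rho_coe]
    ext1 v
    exact act_inn h3 hs v
  have hc : ∀ s ∈ N.map (rho h3), rho h3 x * s = s * rho h3 x → s = 1 := by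
    rintro _ ⟨s, hs, rfl⟩ hcs
    have hs' := (hN s).1 hs
    apply hinn
    apply H.inn_of_comm hs'.1 hs'.2
    intro v
    have h1 : act h3 x (act h3 s v) = act h3 s (act h3 x v) := by
      have h2 := congrArg (fun y : (AddMonoid.End (K × K))ˣ => (y : AddMonoid.End (K × K)) v) hcs
      exact h2
    rw [hxv, hxv] at h1
    exact h1.symm
  have h3' : ∀ s ∈ N.map (rho h3), s ^ 3 = 1 → s = 1 := by
    rintro _ ⟨s, hs, rfl⟩ hcs
    have hs' := (hN s).1 hs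
    rw [← map_pow] at hcs
    have hT : Tr (s ^ 3) := by
      rw [pow_succ, pow_two]
      exact Tr_mul (Tr_mul hs'.2 hs'.2) hs'.2
    have hid : ∀ v, act h3 (s ^ 3) v = v := by
      intro v
      have h2 := congrArg (fun y : (AddMonoid.End (K × K))ˣ => (y : AddMonoid.End (K × K)) v) hcs
      exact h2
    have key : ∀ z : Qb K, Z z → ef ((s ^ 3) z) = ef z := fun z hz => by
      rw [← act_ef h3 _ hz, hid]
    have h9 : (s ^ 3) ^ 3 ^ 2 = 1 :=
      chain h3 hT (fun z hz => congrArg Prod.fst (key z hz)) fun z hz _ => congrArg Prod.snd (key z hz)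
    apply hinn
    apply H.inn_of_pow hs'.1 hs'.2 (k := 3)
    rw [← pow_mul] at h9
    exact h9
  have hfinal := trivial_of_quadratic (three_End h3) hX hn hn' hc h3' (rho h3 r) ⟨r, (hN r).2 ⟨hr, ht⟩, rfl⟩
  apply H.inn_of_act hr ht
  intro v
  have h2 := congrArg (fun y : (AddMonoid.End (K × K))ˣ => (y : AddMonoid.End (K × K)) v) hfinal
  exact h2

/-- **`Γ` moves `Z₄`** -/
theorem main2 (hnn : ¬ ∀ γ ∈ Γ, NormAut ⊤ γ) :
    ∃ γ ∈ Γ, ∃ g : Qb K, (g : GU K).a = 0 ∧ ((γ g : Qb K) : GU K).a ≠ 0 := by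
  by_contra hcon
  push Not at hcon
  apply hnn
  have h3 := H.three
  have := H.fin
  have := finite_MulAut (K := K)
  -- the characterization
  have Wiff : ∀ u : MulAut (Qb K), (∀ g : Qb K, ((u g : Qb K) : GU K).a = (g : GU K).a ∧
      ((g : GU K).a = 0 → ((u g : Qb K) : GU K).c = (g : GU K).c)) ↔
      ((∀ g : Qb K, ∃ z : Qb K, (z : GU K).a = 0 ∧ u g = g * z) ∧
        ∀ g : Qb K, (g : GU K).a = 0 → ∃ z : Qb K, Z z ∧ u g = g * z) := by
    intro u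
    constructor
    · intro h
      refine ⟨fun g => ⟨g⁻¹ * u g, ?_, by group⟩, fun g hg => ⟨g⁻¹ * u g, ⟨?_, ?_⟩, by group⟩⟩
      · rw [ma, ia, (h g).1]; ring
      · rw [ma, ia, (h g).1]; ring
      · rw [mc, ic, (h g).2 hg]; ring
    · rintro ⟨h1, h2⟩ g
      constructor
      · obtain ⟨z, hz, e⟩ := h1 g
        rw [e, ma, hz, add_zero]
      · intro hg
        obtain ⟨z, hz, e⟩ := h2 g hg
        rw [e, mc, hz.2, add_zero]
  obtain ⟨U, hU⟩ : ∃ U : Subgroup (MulAut (Qb K)), ∀ u, u ∈ U ↔ u ∈ Γ ∧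
      ∀ g : Qb K, ((u g : Qb K) : GU K).a = (g : GU K).a ∧
        ((g : GU K).a = 0 → ((u g : Qb K) : GU K).c = (g : GU K).c) :=
    ⟨{ carrier := {u | u ∈ Γ ∧ ∀ g : Qb K, ((u g : Qb K) : GU K).a = (g : GU K).a ∧
        ((g : GU K).a = 0 → ((u g : Qb K) : GU K).c = (g : GU K).c)}
       mul_mem' := fun {u v} h h' => ⟨mul_mem h.1 h'.1, fun g => by
         rw [MulAut.mul_apply]
         refine ⟨by rw [(h.2 _).1, (h'.2 _).1], fun hg => ?_⟩
         rw [(h.2 _).2 (by rw [(h'.2 _).1, hg]), (h'.2 _).2 hg]⟩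
       one_mem' := ⟨one_mem _, fun g => ⟨rfl, fun _ => rfl⟩⟩
       inv_mem' := fun {u} h => ⟨inv_mem h.1, fun g => by
         have h1 := h.2 (u⁻¹ g)
         rw [MulAut.apply_inv_self] at h1
         exact ⟨h1.1.symm, fun hg => (h1.2 (by rw [← h1.1, hg])).symm⟩⟩ }, fun _ => Iff.rfl⟩
  -- conjugation
  have hconj : ∀ γ ∈ Γ, ∀ u ∈ U, γ * u * γ⁻¹ ∈ U := by
    intro γ hγ u hu
    rw [hU, Wiff] at hu ⊢
    obtain ⟨hu1, hu2, hu3⟩ := hu
    refine ⟨mul_mem (mul_mem hγ hu1) (inv_mem hγ), fun g => ?_, fun g hg => ?_⟩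
    · obtain ⟨z, hz, e⟩ := hu2 (γ⁻¹ g)
      refine ⟨γ z, hcon γ hγ z hz, ?_⟩
      rw [MulAut.mul_apply, MulAut.mul_apply, e, map_mul, MulAut.apply_inv_self]
    · obtain ⟨z, hz, e⟩ := hu3 (γ⁻¹ g) (hcon _ (inv_mem hγ) g hg)
      refine ⟨γ z, Z_map h3 γ hz, ?_⟩
      rw [MulAut.mul_apply, MulAut.mul_apply, e, map_mul, MulAut.apply_inv_self]
  -- `U` is a `3`-group
  have hp : IsPGroup 3 U := by
    rintro ⟨u, hu⟩
    refine ⟨2, Subtype.ext ?_⟩
    rw [Subgroup.coe_pow, Subgroup.coe_one]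
    show u ^ 3 ^ 2 = 1
    have hu' := (hU u).1 hu
    have hT : Tr (u ^ 3) := by
      intro g
      have e3 : (u ^ 3) g = u (u (u g)) := rfl
      rw [e3]
      refine ⟨by rw [(hu'.2 _).1, (hu'.2 _).1, (hu'.2 _).1], ?_⟩
      obtain ⟨z, hz⟩ : ∃ z, z = g⁻¹ * u g := ⟨_, rfl⟩
      have e1 : u g = g * z := by rw [hz]; group
      have za : (z : GU K).a = 0 := by rw [hz, ma, ia, (hu'.2 g).1]; ring
      have zc : ((u z : Qb K) : GU K).c = (z : GU K).c := (hu'.2 z).2 za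
      have zc' : ((u (u z) : Qb K) : GU K).c = (z : GU K).c := by
        rw [(hu'.2 (u z)).2 (by rw [(hu'.2 z).1, za]), zc]
      have s1 : u (u (u g)) = g * z * u z * u (u z) := by
        rw [e1, map_mul, e1, map_mul, map_mul, e1]
      rw [s1, mc, mc, mc, zc, zc']
      linear_combination (z : GU K).c * h3
    obtain ⟨x, hx⟩ := H.main1 (pow_mem hu'.1 3) hT
    have h9 : u ^ 3 ^ 2 = (u ^ 3) ^ 3 := by rw [← pow_mul]; norm_num
    rw [h9, ← hx, ← map_pow, pow_succ, pow_two, cube_eq_one h3, map_one]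
  -- `U = Aut_S(Q_b)`
  have hPU : autInducedBy ⊤ (Qb K) ≤ U := by
    intro y hy
    obtain ⟨x, rfl⟩ := mem_ind.1 hy
    refine (hU _).2 ⟨H.indu hy, fun g => ⟨cj_a x g, fun hg => ?_⟩⟩
    rw [cj_c, hg, mul_zero, add_zero]
  obtain ⟨g, hg, hgU⟩ := H.syl U (fun u hu => ((hU u).1 hu).1) hp
  have hcard : Nat.card U ≤ Nat.card (autInducedBy ⊤ (Qb K) : Subgroup (MulAut (Qb K))) := by
    refine Nat.card_le_card_of_injective
      (fun u : U => (⟨g * u * g⁻¹, hgU u u.2⟩ : (autInducedBy ⊤ (Qb K) : Subgroup (MulAut (Qb K))))) ?_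
    intro u v e
    have h1 := congrArg Subtype.val e
    exact Subtype.ext (mul_left_cancel (mul_right_cancel h1))
  have hEq : autInducedBy ⊤ (Qb K) = U := Subgroup.eq_of_le_of_card_ge hPU hcard
  intro γ hγ y hy
  rw [hEq] at hy ⊢
  exact hconj γ hγ y hy

end Hy

/-- **`StLb0`** -/
theorem stLb0 : StLb0.{u} := by
  intro K _ n hK Γ hind hsyl hnn hext
  have := hK.char
  have h3 : (3 : K) = 0 := by exact_mod_cast CharP.cast_eq_zero K 3
  have H : Hy Γ := ⟨h3, hK.fin, hind, hsyl, hext⟩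
  exact ⟨fun γ hγ ht => H.main1 hγ ht, H.main2 hnn⟩

end Cfsg.Agent.H428.GT
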