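import Mathlib

/-!
# A quadratic element of order three acts trivially (helper428), for S5211 (StLb0)

`A` a ring with `3 = 0`, `X` a unit with `(X - 1)² = 0`, `R` a finite group of units normalised by `X`, without elements of
order three, in which `1` is the only element commuting with `X`: then `R = 1`.
-/

set_option autoImplicit false

namespace Cfsg.Agent.H428.GT

theorem exists_rel {G : Type*} [Group G] {X : G} (hX : X * X * X = 1) {R : Subgroup G} [Finite R]
    (hn : ∀ r ∈ R, X * r * X⁻¹ ∈ R) (hc : ∀ r ∈ R, X * r = r * X → r = 1) {r : G} (hr : r ∈ R) :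
    r * (X * r * X⁻¹) * (X⁻¹ * r * X) = 1 := by
  let φ : R → R := fun s => ⟨(s : G)⁻¹ * (X * s * X⁻¹), mul_mem (inv_mem s.2) (hn _ s.2)⟩
  have hφ : Function.Injective φ := by
    intro s t h
    have h1 : (s : G)⁻¹ * (X * s * X⁻¹) = (t : G)⁻¹ * (X * t * X⁻¹) := congrArg Subtype.val h
    have h2 : (t : G) * (s : G)⁻¹ = 1 := by
      apply hc _ (mul_mem t.2 (inv_mem s.2))
      have h3 : (t : G) * (s : G)⁻¹ * (X * s * X⁻¹) = X * t * X⁻¹ := by rw [mul_assoc, h1]; group
      calc X * ((t : G) * (s : G)⁻¹) = (X * t * X⁻¹) * (X * (s : G)⁻¹) := by group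
        _ = (t : G) * (s : G)⁻¹ * (X * s * X⁻¹) * (X * (s : G)⁻¹) := by rw [h3]
        _ = (t : G) * (s : G)⁻¹ * X := by group
    have h3 : (t : G) = s := mul_inv_eq_one.1 h2
    exact Subtype.ext h3.symm
  obtain ⟨s, hs⟩ := (Finite.injective_iff_surjective.1 hφ) ⟨r, hr⟩
  have h1 : r = (s : G)⁻¹ * (X * s * X⁻¹) := (congrArg Subtype.val hs).symm
  rw [h1]
  calc (s : G)⁻¹ * (X * s * X⁻¹) * (X * ((s : G)⁻¹ * (X * s * X⁻¹)) * X⁻¹) *
        (X⁻¹ * ((s : G)⁻¹ * (X * s * X⁻¹)) * X)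
      = (s : G)⁻¹ * (X * X) * s * (X * X * X)⁻¹ * (s : G)⁻¹ * X * s := by group
    _ = (s : G)⁻¹ * (X * X * X) * s := by rw [show (X * X * X)⁻¹ = 1 by rw [hX, inv_one]]; group
    _ = 1 := by rw [hX]; group

variable {A : Type*} [Ring A]

theorem pow_three_pow (h3 : (3 : A) = 0) {x y : A} (h : Commute x y) (n : ℕ) :
    (x + y) ^ 3 ^ n = x ^ 3 ^ n + y ^ 3 ^ n := by
  rcases subsingleton_or_nontrivial A with hs | hs
  · exact Subsingleton.elim _ _
  · have h4 : CharP A 3 := (CharP.charP_iff_prime_eq_zero Nat.prime_three).2 (by exact_mod_cast h3)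
    have : Fact (Nat.Prime 3) := ⟨Nat.prime_three⟩
    exact add_pow_char_pow_of_commute 3 n h

/-- **a quadratic element of order three acting without fixed points on a group of units of order prime to three** -/
theorem trivial_of_quadratic (h3 : (3 : A) = 0) {X : Aˣ} (hX : ((X : A) - 1) * ((X : A) - 1) = 0)
    {R : Subgroup Aˣ} [Finite R] (hn : ∀ r ∈ R, X * r * X⁻¹ ∈ R) (hn' : ∀ r ∈ R, X⁻¹ * r * X ∈ R)
    (hc : ∀ r ∈ R, X * r = r * X → r = 1) (h3' : ∀ r ∈ R, r ^ 3 = 1 → r = 1) : ∀ r ∈ R, r = 1 := by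
  obtain ⟨N, hN⟩ : ∃ N : A, N = (X : A) - 1 := ⟨_, rfl⟩
  have hN2 : N * N = 0 := by rw [hN]; exact hX
  have hX1 : (X : A) = 1 + N := by rw [hN]; abel
  have hX2 : ((X⁻¹ : Aˣ) : A) = 1 - N := by
    have h1 : (X : A) * (1 - N) = 1 := by
      rw [hX1]
      have : (1 + N) * (1 - N) = 1 - N * N := by noncomm_ring
      rw [this, hN2, sub_zero]
    calc ((X⁻¹ : Aˣ) : A) = ((X⁻¹ : Aˣ) : A) * ((X : A) * (1 - N)) := by rw [h1, mul_one]
      _ = 1 - N := by rw [← mul_assoc, ← Units.val_mul, inv_mul_cancel, Units.val_one, one_mul]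
  have hX3 : X * X * X = 1 := by
    apply Units.ext
    rw [Units.val_mul, Units.val_mul, Units.val_one, hX1]
    have : (1 + N) * (1 + N) * (1 + N) = 1 + 3 * N + 3 * (N * N) + N * (N * N) := by noncomm_ring
    rw [this, hN2, h3]
    simp
  -- the coprime exponent
  have hcop : (Nat.card R).Coprime 3 := by
    rw [Nat.coprime_comm, Nat.Prime.coprime_iff_not_dvd Nat.prime_three]
    intro hd
    have : Fact (Nat.Prime 3) := ⟨Nat.prime_three⟩
    obtain ⟨r, hr⟩ := exists_prime_orderOf_dvd_card' 3 hd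
    have h1 : r ^ 3 = 1 := by rw [← hr]; exact pow_orderOf_eq_one r
    have h2 : (r : Aˣ) = 1 := h3' r r.2 (by
      have := congrArg Subtype.val h1
      simpa using this)
    have h4 : r = 1 := Subtype.ext h2
    rw [h4, orderOf_one] at hr
    omega
  obtain ⟨k, hk, hpow⟩ : ∃ k, 1 ≤ k ∧ ∀ r ∈ R, r ^ 3 ^ k = r := by
    refine ⟨Nat.totient (Nat.card R), Nat.totient_pos.2 Nat.card_pos, fun r hr => ?_⟩
    have h1 : 3 ^ Nat.totient (Nat.card R) ≡ 1 [MOD Nat.card R] := Nat.ModEq.pow_totient hcop.symm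
    have h2 : orderOf r ∣ Nat.card R := by
      have := orderOf_dvd_natCard (⟨r, hr⟩ : R)
      rwa [Subgroup.orderOf_mk] at this
    have h4 := (pow_eq_pow_iff_modEq (x := r)).2 (h1.of_dvd h2)
    rw [h4, pow_one]
  -- the relations
  have rel : ∀ r ∈ R, ∃ β γ : Aˣ, β ∈ R ∧ γ ∈ R ∧ β = X * r * X⁻¹ ∧ γ = X⁻¹ * r * X ∧ r * β * γ = 1 ∧ r * β = β * r ∧
      r * γ = γ * r ∧ β * γ = γ * β := by
    intro r hr
    have e1 := exists_rel hX3 hn hc hr
    have hX3' : X⁻¹ * X⁻¹ * X⁻¹ = 1 := by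
      rw [← _root_.mul_inv_rev, ← _root_.mul_inv_rev, ← mul_assoc, hX3, inv_one]
    have e2 := exists_rel (X := X⁻¹) hX3' (fun r hr => by rw [inv_inv]; exact hn' r hr) (fun r hr h => hc r hr (by
      calc X * r = X * (r * X⁻¹) * X := by group
        _ = X * (X⁻¹ * r) * X := by rw [h]
        _ = r * X := by group)) hr
    rw [inv_inv] at e2
    obtain ⟨β, hβ⟩ : ∃ β, β = X * r * X⁻¹ := ⟨_, rfl⟩
    obtain ⟨γ, hγ⟩ : ∃ γ, γ = X⁻¹ * r * X := ⟨_, rfl⟩
    have hXX : X⁻¹ = X * X := inv_eq_of_mul_eq_one_left hX3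
    have cβ : X * β * X⁻¹ = γ := by
      rw [hβ, hγ, hXX]
      have : X * (X * r * (X * X)) * (X * X) = X * X * r * X * (X * X * X) := by group
      rw [this, hX3, mul_one]
    have cγ : X * γ * X⁻¹ = r := by rw [hγ]; group
    rw [← hβ, ← hγ] at e1
    rw [← hβ, ← hγ] at e2
    have conj : ∀ a b c : Aˣ, a * b * c = 1 → (X * a * X⁻¹) * (X * b * X⁻¹) * (X * c * X⁻¹) = 1 := by
      intro a b c h
      calc (X * a * X⁻¹) * (X * b * X⁻¹) * (X * c * X⁻¹) = X * (a * b * c) * X⁻¹ := by group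
        _ = 1 := by rw [h]; group
    -- `e1 : r β γ = 1`, `e2 : r γ β = 1`
    have e3 := conj _ _ _ e1
    rw [← hβ, cβ, cγ] at e3
    have e4 := conj _ _ _ e3
    rw [← hβ, cβ, cγ] at e4
    have e5 := conj _ _ _ e2
    rw [← hβ, cβ, cγ] at e5
    have e6 := conj _ _ _ e5
    rw [← hβ, cβ, cγ] at e6
    -- e3 : β γ r = 1, e4 : γ r β = 1, e5 : β r γ = 1, e6 : γ β r = 1
    refine ⟨β, γ, hβ ▸ hn r hr, hγ ▸ hn' r hr, hβ, hγ, e1, ?_, ?_, ?_⟩
    · exact mul_right_cancel (e1.trans e5.symm)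
    · exact mul_right_cancel (e2.trans e4.symm)
    · exact mul_right_cancel (e3.trans e6.symm)
  have sum0 : ∀ r ∈ R, ∀ β γ : Aˣ, β ∈ R → γ ∈ R → β = X * r * X⁻¹ → γ = X⁻¹ * r * X → r * β = β * r →
      r * γ = γ * r → β * γ = γ * β → (r : A) + β + γ = 0 := by
    intro r hr β γ hβR hγR hβ hγ c1 c2 c3
    have hβ' : (β : A) = (1 + N) * r * (1 - N) := by rw [hβ, Units.val_mul, Units.val_mul, hX1, hX2]
    have hγ' : (γ : A) = (1 - N) * r * (1 + N) := by rw [hγ, Units.val_mul, Units.val_mul, hX1, hX2]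
    have hs : (r : A) + β + γ = -2 * (N * r * N) := by
      rw [hβ', hγ']
      have : (r : A) + (1 + N) * r * (1 - N) + (1 - N) * r * (1 + N) = 3 * r - 2 * (N * r * N) := by noncomm_ring
      rw [this, h3]
      noncomm_ring
    have hs2 : ((r : A) + β + γ) * ((r : A) + β + γ) = 0 := by
      rw [hs]
      have : (-2 * (N * (r : A) * N)) * (-2 * (N * r * N)) = 4 * (N * r * (N * N) * r * N) := by noncomm_ring
      rw [this, hN2]
      simp
    have C1 : Commute (r : A) (β : A) := congrArg Units.val c1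
    have C2 : Commute (r : A) (γ : A) := congrArg Units.val c2
    have C3 : Commute (β : A) (γ : A) := congrArg Units.val c3
    have h4 : ((r : A) + β + γ) ^ 3 ^ k = (r : A) + β + γ := by
      rw [pow_three_pow h3 (C2.add_left C3), pow_three_pow h3 C1]
      have f1 := congrArg Units.val (hpow r hr)
      have f2 := congrArg Units.val (hpow β hβR)
      have f3 := congrArg Units.val (hpow γ hγR)
      rw [Units.val_pow_eq_pow_val] at f1 f2 f3
      rw [f1, f2, f3]
    have h5 : 2 ≤ 3 ^ k := by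
      calc 2 ≤ 3 ^ 1 := by norm_num
        _ ≤ 3 ^ k := Nat.pow_le_pow_right (by norm_num) hk
    obtain ⟨m, hm⟩ := Nat.exists_eq_add_of_le h5
    rw [← h4, hm, pow_add, pow_two, hs2, zero_mul]
  intro r hr
  obtain ⟨β, γ, hβR, hγR, hβ, hγ, e1, c1, c2, c3⟩ := rel r hr
  have s1 := sum0 r hr β γ hβR hγR hβ hγ c1 c2 c3
  have s2 := sum0 (r * r) (mul_mem hr hr) (β * β) (γ * γ) (mul_mem hβR hβR) (mul_mem hγR hγR)
    (by rw [hβ]; group) (by rw [hγ]; group)
    (by
      have : Commute (r * r) (β * β) := (Commute.mul_left c1 c1).mul_right (Commute.mul_left c1 c1)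
      exact this)
    (by
      have : Commute (r * r) (γ * γ) := (Commute.mul_left c2 c2).mul_right (Commute.mul_left c2 c2)
      exact this)
    (by
      have : Commute (β * β) (γ * γ) := (Commute.mul_left c3 c3).mul_right (Commute.mul_left c3 c3)
      exact this)
  have C1 : (r : A) * (β : A) = (β : A) * r := congrArg Units.val c1
  have hγ' : (γ : A) = -(r : A) - β := by
    have : (γ : A) = ((r : A) + β + γ) - r - β := by abel
    rw [this, s1]
    abel
  have q : (r : A) * r + β * β + r * β = 0 := by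
    rw [Units.val_mul, Units.val_mul, Units.val_mul, hγ'] at s2
    have h4 : (r : A) * r + β * β + (-(r : A) - β) * (-(r : A) - β) =
        2 * ((r : A) * r + β * β) + (r * β + β * r) := by noncomm_ring
    rw [h4, ← C1] at s2
    have h5 : 2 * ((r : A) * r + β * β) + (r * β + r * β) = 2 * ((r : A) * r + β * β + r * β) := by noncomm_ring
    rw [h5] at s2
    have h6 : (r : A) * r + β * β + r * β = 3 * ((r : A) * r + β * β + r * β) -
        2 * ((r : A) * r + β * β + r * β) := by noncomm_ring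
    rw [h6, s2, h3]
    simp
  have cube : (r : A) * r * r = 1 := by
    have h4 : (r : A) * β * γ = 1 := by
      have := congrArg Units.val e1
      simpa using this
    rw [hγ'] at h4
    have h5 : (r : A) * β * (-(r : A) - β) = -(r * (β * r)) - r * β * β := by noncomm_ring
    rw [h5, ← C1] at h4
    have h6 : (r : A) * r * r = r * (r * r + β * β + r * β) + (-(r * (r * β)) - r * β * β) := by noncomm_ring
    rw [h6, q, h4]
    simp
  apply h3' r hr
  apply Units.ext
  rw [Units.val_pow_eq_pow_val, Units.val_one, ← cube]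
  noncomm_ring

end Cfsg.Agent.H428.GT
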