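import Cfsg.Agent.H779.G2.Stmts2
import Cfsg.Agent.H428.GT.Ring

/-!
# `StLb0` (helper428), for S5211

`p = 3`, `Γ = Aut_F(Q_b)`, `Aut_S(Q_b)` a Sylow subgroup of `Γ` which is not normal.

* `main1` : the elements of `Γ` trivial on `Q_b / Z₃` are inner;
* `main2` : some element of `Γ` moves `J = Z₄`.
-/

set_option autoImplicit false
set_option linter.unusedSimpArgs false

namespace Cfsg.Agent.H428.GT

open Cfsg Cfsg.FusionSystem Cfsg.Agent.H756.PU Cfsg.Agent.H779.G2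

universe u

variable {K : Type u} [Field K]

/-- elements of `Q_b` by coordinates -/
def qb (a c d e f : K) : Qb K := ⟨⟨a, 0, c, d, e, f⟩, rfl⟩

section coord

@[simp] theorem qb_a (a c d e f : K) : ((qb a c d e f : Qb K) : GU K).a = a := rfl
@[simp] theorem qb_b (a c d e f : K) : ((qb a c d e f : Qb K) : GU K).b = 0 := rfl
@[simp] theorem qb_c (a c d e f : K) : ((qb a c d e f : Qb K) : GU K).c = c := rfl
@[simp] theorem qb_d (a c d e f : K) : ((qb a c d e f : Qb K) : GU K).d = d := rfl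
@[simp] theorem qb_e (a c d e f : K) : ((qb a c d e f : Qb K) : GU K).e = e := rfl
@[simp] theorem qb_f (a c d e f : K) : ((qb a c d e f : Qb K) : GU K).f = f := rfl

theorem gb (g : Qb K) : (g : GU K).b = 0 := g.2

theorem qext {g h : Qb K} (ha : (g : GU K).a = (h : GU K).a) (hc : (g : GU K).c = (h : GU K).c)
    (hd : (g : GU K).d = (h : GU K).d) (he : (g : GU K).e = (h : GU K).e) (hf : (g : GU K).f = (h : GU K).f) : g = h := by
  apply Subtype.ext
  apply GU.ext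
  · exact ha
  · rw [gb, gb]
  · exact hc
  · exact hd
  · exact he
  · exact hf

theorem ma (g h : Qb K) : ((g * h : Qb K) : GU K).a = (g : GU K).a + (h : GU K).a := rfl

theorem mc (g h : Qb K) : ((g * h : Qb K) : GU K).c = (g : GU K).c + (h : GU K).c := by
  rw [Subgroup.coe_mul, GU.mul_c, gb]
  ring

theorem md (g h : Qb K) : ((g * h : Qb K) : GU K).d = (g : GU K).d + (h : GU K).d + 2 * (g : GU K).c * (h : GU K).a := by
  rw [Subgroup.coe_mul, GU.mul_d, gb]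
  ring

variable (h3 : (3 : K) = 0)

include h3

theorem me (g h : Qb K) : ((g * h : Qb K) : GU K).e = (g : GU K).e + (h : GU K).e := by
  rw [Subgroup.coe_mul, GU.mul_e, gb]
  linear_combination ((g : GU K).d * (h : GU K).a + (g : GU K).c * (h : GU K).a ^ 2) * h3

theorem mf (g h : Qb K) : ((g * h : Qb K) : GU K).f = (g : GU K).f + (h : GU K).f := by
  rw [Subgroup.coe_mul, GU.mul_f, gb g, gb h]
  linear_combination ((g : GU K).d * (h : GU K).c + 2 * (g : GU K).c * (h : GU K).a * (h : GU K).c +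
    (g : GU K).c ^ 2 * (h : GU K).a) * h3

omit h3 in
theorem ia (g : Qb K) : ((g⁻¹ : Qb K) : GU K).a = - (g : GU K).a := rfl

omit h3 in
theorem ic (g : Qb K) : ((g⁻¹ : Qb K) : GU K).c = - (g : GU K).c := by
  rw [Subgroup.coe_inv, GU.inv_c, gb]
  ring

omit h3 in
theorem id (g : Qb K) : ((g⁻¹ : Qb K) : GU K).d = - (g : GU K).d + 2 * (g : GU K).a * (g : GU K).c := by
  rw [Subgroup.coe_inv, GU.inv_d, gb]
  ring

theorem ie (g : Qb K) : ((g⁻¹ : Qb K) : GU K).e = - (g : GU K).e := by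
  rw [Subgroup.coe_inv, GU.inv_e, gb]
  linear_combination ((g : GU K).a * (g : GU K).d - (g : GU K).a ^ 2 * (g : GU K).c) * h3

theorem if' (g : Qb K) : ((g⁻¹ : Qb K) : GU K).f = - (g : GU K).f := by
  rw [Subgroup.coe_inv, GU.inv_f, gb]
  linear_combination ((g : GU K).c * (g : GU K).d - (g : GU K).a * (g : GU K).c ^ 2) * h3

end coord

/-- `z` is in `Z₃ = Z(Q_b)` -/
def Z (g : Qb K) : Prop := (g : GU K).a = 0 ∧ (g : GU K).c = 0

/-- cubes in `Q_b` are trivial -/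
theorem cube_eq_one (h3 : (3 : K) = 0) (g : Qb K) : g * g * g = 1 := by
  apply qext
  · rw [ma, ma]; show _ = (0 : K); linear_combination (g : GU K).a * h3
  · rw [mc, mc]; show _ = (0 : K); linear_combination (g : GU K).c * h3
  · rw [md, md, mc]; show _ = (0 : K); linear_combination ((g : GU K).d + 2 * (g : GU K).c * (g : GU K).a) * h3
  · rw [me h3, me h3]; show _ = (0 : K); linear_combination (g : GU K).e * h3
  · rw [mf h3, mf h3]; show _ = (0 : K); linear_combination (g : GU K).f * h3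

/-- commutators in `Q_b` -/
theorem comm_eq (h3 : (3 : K) = 0) (g h : Qb K) : g * h * g⁻¹ * h⁻¹ =
    qb 0 0 (2 * ((g : GU K).c * (h : GU K).a - (h : GU K).c * (g : GU K).a)) 0 0 := by
  apply qext
  · rw [ma, ma, ma, ia, ia, qb_a]; ring
  · rw [mc, mc, mc, ic, ic, qb_c]; ring
  · simp only [md, mc, ic, ia, id, qb_d]; ring
  · rw [me h3, me h3, me h3, ie h3, ie h3, qb_e]; ring
  · rw [mf h3, mf h3, mf h3, if' h3, if' h3, qb_f]; ring

theorem two_ne (h3 : (3 : K) = 0) : (2 : K) ≠ 0 := by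
  intro h
  have : (1 : K) = 0 := by linear_combination h3 - h
  exact one_ne_zero this

/-- `Z₃ = Z(Q_b)` -/
theorem Z_iff (h3 : (3 : K) = 0) {z : Qb K} : Z z ↔ ∀ g, z * g = g * z := by
  constructor
  · rintro ⟨ha, hc⟩ g
    apply qext
    · rw [ma, ma]; ring
    · rw [mc, mc]; ring
    · rw [md, md, ha, hc]; ring
    · rw [me h3, me h3]; ring
    · rw [mf h3, mf h3]; ring
  · intro h
    have h2 := two_ne h3
    constructor
    · have h1 := congrArg (fun x : Qb K => (x : GU K).d) (h (qb 0 1 0 0 0))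
      simp only [md, qb_a, qb_c, qb_d] at h1
      have : (2 : K) * (z : GU K).a = 0 := by linear_combination -h1
      exact (mul_eq_zero.1 this).resolve_left h2
    · have h1 := congrArg (fun x : Qb K => (x : GU K).d) (h (qb 1 0 0 0 0))
      simp only [md, qb_a, qb_c, qb_d] at h1
      have : (2 : K) * (z : GU K).c = 0 := by linear_combination h1
      exact (mul_eq_zero.1 this).resolve_left h2

theorem Z_map (h3 : (3 : K) = 0) (γ : MulAut (Qb K)) {z : Qb K} (hz : Z z) : Z (γ z) := by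
  rw [Z_iff h3] at hz ⊢
  intro g
  obtain ⟨g', rfl⟩ := γ.surjective g
  rw [← map_mul, ← map_mul, hz]

/-- every element of `X₄` is a commutator -/
theorem x4_eq (h3 : (3 : K) = 0) (d : K) : (qb 0 0 d 0 0 : Qb K) =
    qb 0 1 0 0 0 * qb (d * 2⁻¹) 0 0 0 0 * (qb 0 1 0 0 0)⁻¹ * (qb (d * 2⁻¹) 0 0 0 0)⁻¹ := by
  rw [comm_eq h3]
  simp only [qb_a, qb_c]
  have h2 := two_ne h3
  congr 1
  field_simp
  ring

/-- automorphisms preserve `X₄` -/
theorem x4_map (h3 : (3 : K) = 0) (γ : MulAut (Qb K)) (d : K) : ∃ d', γ (qb 0 0 d 0 0) = qb 0 0 d' 0 0 := by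
  rw [x4_eq h3, map_mul, map_mul, map_mul, map_inv, map_inv, comm_eq h3]
  exact ⟨_, rfl⟩

/-- `γ` is trivial on `Q_b / Z₃` -/
def Tr (γ : MulAut (Qb K)) : Prop :=
  ∀ g : Qb K, ((γ g : Qb K) : GU K).a = (g : GU K).a ∧ ((γ g : Qb K) : GU K).c = (g : GU K).c

/-- automorphisms trivial on `Q_b / Z₃` fix `X₄` -/
theorem x4_fix (h3 : (3 : K) = 0) {γ : MulAut (Qb K)} (hγ : Tr γ) (d : K) : γ (qb 0 0 d 0 0) = qb 0 0 d 0 0 := by
  conv_lhs => rw [x4_eq h3, map_mul, map_mul, map_mul, map_inv, map_inv, comm_eq h3, (hγ _).1, (hγ _).2, (hγ _).1, (hγ _).2]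
  conv_rhs => rw [x4_eq h3, comm_eq h3]

/-- **the stability group of the chain `Q_b > Z₃ > X₄X₆ > X₄ > 1`** -/
theorem chain (h3 : (3 : K) = 0) {γ : MulAut (Qb K)} (hγ : Tr γ)
    (he : ∀ z : Qb K, Z z → ((γ z : Qb K) : GU K).e = (z : GU K).e)
    (hf : ∀ z : Qb K, Z z → (z : GU K).e = 0 → ((γ z : Qb K) : GU K).f = (z : GU K).f) : γ ^ 3 ^ 2 = 1 := by
  have key : ∀ g : Qb K, ∃ v, γ v = v ∧ Z v ∧ γ (γ (γ g)) = g * v := by
    intro g
    obtain ⟨z, hz⟩ : ∃ z, z = g⁻¹ * γ g := ⟨_, rfl⟩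
    obtain ⟨w, hw⟩ : ∃ w, w = z⁻¹ * γ z := ⟨_, rfl⟩
    obtain ⟨v, hv⟩ : ∃ v, v = w⁻¹ * γ w := ⟨_, rfl⟩
    have e1 : γ g = g * z := by rw [hz]; group
    have e2 : γ z = z * w := by rw [hw]; group
    have e3 : γ w = w * v := by rw [hv]; group
    have Zz : Z z := by
      constructor
      · rw [hz, ma, ia, (hγ g).1]; ring
      · rw [hz, mc, ic, (hγ g).2]; ring
    have Zw : Z w := by
      constructor
      · rw [hw, ma, ia, (hγ z).1]; ring
      · rw [hw, mc, ic, (hγ z).2]; ring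
    have we : (w : GU K).e = 0 := by rw [hw, me h3, ie h3, he z Zz]; ring
    have Zv : Z v := by
      constructor
      · rw [hv, ma, ia, (hγ w).1]; ring
      · rw [hv, mc, ic, (hγ w).2]; ring
    have ve : (v : GU K).e = 0 := by rw [hv, me h3, ie h3, he w Zw]; ring
    have vf : (v : GU K).f = 0 := by rw [hv, mf h3, if' h3, hf w Zw we]; ring
    have ev : v = qb 0 0 (v : GU K).d 0 0 := qext Zv.1 Zv.2 rfl ve vf
    have e4 : γ v = v := by rw [ev]; exact x4_fix h3 hγ _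
    have cz := (Z_iff h3).1 Zz
    have cw := (Z_iff h3).1 Zw
    refine ⟨v, e4, Zv, ?_⟩
    have s1 : γ (γ g) = g * z * (z * w) := by rw [e1, map_mul, e1, e2]
    rw [s1]
    simp only [map_mul, e1, e2, e3]
    calc g * z * (z * w) * (z * w * (w * v)) = g * z * z * (w * z) * w * w * v := by group
      _ = g * z * z * (z * w) * w * w * v := by rw [cw z]
      _ = g * (z * z * z) * (w * w * w) * v := by group
      _ = g * v := by rw [cube_eq_one h3, cube_eq_one h3]; group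
  ext1 g
  obtain ⟨v, hv, Zv, e⟩ := key g
  have e9 : (γ ^ 3 ^ 2) g = γ (γ (γ (γ (γ (γ (γ (γ (γ g)))))))) := rfl
  rw [e9, e]
  simp only [map_mul, hv, e]
  have h1 : g * v * v * v = g * (v * v * v) := by group
  rw [h1, cube_eq_one h3, mul_one]
  rfl

/-! ### conjugation by elements of `S` -/

instance Qb_normal : (Qb K).Normal := ⟨fun n hn g => by
  have h1 : n.b = 0 := hn
  show (g * n * g⁻¹).b = 0
  rw [GU.mul_b, GU.mul_b, GU.inv_b, h1]
  ring⟩

theorem mem_ind {γ : MulAut (Qb K)} : γ ∈ autInducedBy ⊤ (Qb K) ↔ ∃ x : GU K, γ = MulAut.conjNormal x := by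
  rw [H802.mem_autInducedBy_iff]
  constructor
  · rintro ⟨x, -, h⟩
    refine ⟨x, ?_⟩
    ext1 g
    apply Subtype.ext
    rw [h, MulAut.conjNormal_apply]
  · rintro ⟨x, rfl⟩
    exact ⟨x, Subgroup.mem_top x, fun g => MulAut.conjNormal_apply x g⟩

theorem cj_a (x : GU K) (g : Qb K) : ((MulAut.conjNormal x g : Qb K) : GU K).a = (g : GU K).a := by
  rw [MulAut.conjNormal_apply, GU.mul_a, GU.mul_a, GU.inv_a]
  ring

theorem cj_c (x : GU K) (g : Qb K) : ((MulAut.conjNormal x g : Qb K) : GU K).c = (g : GU K).c + x.b * (g : GU K).a := by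
  rw [MulAut.conjNormal_apply, GU.mul_c, GU.mul_c, GU.mul_b, GU.inv_a, GU.inv_c, gb]
  ring

theorem cj_e (h3 : (3 : K) = 0) (x : GU K) {z : Qb K} (hz : Z z) :
    ((MulAut.conjNormal x z : Qb K) : GU K).e = (z : GU K).e := by
  rw [MulAut.conjNormal_apply]
  simp only [GU.mul_e, GU.mul_d, GU.mul_c, GU.mul_b, GU.mul_a, GU.inv_a, GU.inv_b, GU.inv_c, GU.inv_d, GU.inv_e, gb, hz.1, hz.2]
  linear_combination (-(z : GU K).d * x.a) * h3

theorem cj_f (h3 : (3 : K) = 0) (x : GU K) {z : Qb K} (hz : Z z) :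
    ((MulAut.conjNormal x z : Qb K) : GU K).f = (z : GU K).f + x.b * (z : GU K).e := by
  rw [MulAut.conjNormal_apply]
  simp only [GU.mul_f, GU.mul_e, GU.mul_d, GU.mul_c, GU.mul_b, GU.mul_a, GU.inv_a, GU.inv_b, GU.inv_c, GU.inv_d, GU.inv_e,
    GU.inv_f, gb, hz.1, hz.2]
  linear_combination (-(z : GU K).d * x.c) * h3

theorem inn_of_b {x : GU K} (hx : x.b = 0) : (MulAut.conjNormal x : MulAut (Qb K)) ∈ Inn (Qb K) := by
  refine ⟨⟨x, hx⟩, ?_⟩
  ext1 g
  apply Subtype.ext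
  rw [MulAut.conjNormal_apply]
  rfl

theorem inn_le_ind : Inn (Qb K) ≤ autInducedBy ⊤ (Qb K) := by
  rintro _ ⟨x, rfl⟩
  refine mem_ind.2 ⟨x, ?_⟩
  ext1 g
  apply Subtype.ext
  rw [MulAut.conjNormal_apply]
  rfl

theorem Tr_iff {γ : MulAut (Qb K)} : Tr γ ↔ ∀ g, ∃ z, Z z ∧ γ g = g * z := by
  constructor
  · intro h g
    refine ⟨g⁻¹ * γ g, ⟨?_, ?_⟩, by group⟩
    · rw [ma, ia, (h g).1]; ring
    · rw [mc, ic, (h g).2]; ring
  · intro h g
    obtain ⟨z, hz, e⟩ := h g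
    rw [e, ma, mc, hz.1, hz.2, add_zero, add_zero]
    exact ⟨rfl, rfl⟩

theorem Tr_one : Tr (1 : MulAut (Qb K)) := fun _ => ⟨rfl, rfl⟩

theorem Tr_mul {γ δ : MulAut (Qb K)} (h : Tr γ) (h' : Tr δ) : Tr (γ * δ) := fun g => by
  rw [MulAut.mul_apply, (h _).1, (h _).2, (h' _).1, (h' _).2]
  exact ⟨rfl, rfl⟩

theorem Tr_inv {γ : MulAut (Qb K)} (h : Tr γ) : Tr γ⁻¹ := fun g => by
  have h1 := h (γ⁻¹ g)
  rw [MulAut.apply_inv_self] at h1
  exact ⟨h1.1.symm, h1.2.symm⟩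

theorem Tr_conj (h3 : (3 : K) = 0) {γ : MulAut (Qb K)} (h : Tr γ) (g : MulAut (Qb K)) : Tr (g * γ * g⁻¹) := by
  rw [Tr_iff] at h ⊢
  intro x
  obtain ⟨z, hz, e⟩ := h (g⁻¹ x)
  refine ⟨g z, Z_map h3 g hz, ?_⟩
  rw [MulAut.mul_apply, MulAut.mul_apply, e, map_mul, MulAut.apply_inv_self]

/-- inner automorphisms are trivial on `Q_b / Z₃` -/
theorem Tr_inn {γ : MulAut (Qb K)} (h : γ ∈ Inn (Qb K)) : Tr γ := by
  obtain ⟨x, rfl⟩ := h
  intro g
  rw [MulAut.conj_apply, ma, ma, mc, mc, ia, ic]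
  constructor <;> ring

/-- the hypotheses of `StLb0` -/
structure Hy (Γ : Subgroup (MulAut (Qb K))) : Prop where
  three : (3 : K) = 0
  fin : Finite K
  indu : autInducedBy ⊤ (Qb K) ≤ Γ
  syl : ∀ P : Subgroup (MulAut (Qb K)), P ≤ Γ → IsPGroup 3 P → ∃ g ∈ Γ, ∀ x ∈ P, g * x * g⁻¹ ∈ autInducedBy ⊤ (Qb K)
  ext : ∀ γ ∈ Γ, NormAut ⊤ γ → ∃ α : MulAut (GU K), IsR α γ

namespace Hy

variable {Γ : Subgroup (MulAut (Qb K))} (H : Hy Γ)

include H

/-- `3`-elements of `Γ` trivial on `Q_b / Z₃` are inner -/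
theorem inn_of_pow {r : MulAut (Qb K)} (hr : r ∈ Γ) (ht : Tr r) {k : ℕ} (hk : r ^ 3 ^ k = 1) : r ∈ Inn (Qb K) := by
  obtain ⟨g, hg, h⟩ := H.syl (Subgroup.zpowers r) (by rwa [Subgroup.zpowers_le]) (by
    rintro ⟨_, m, rfl⟩
    refine ⟨k, Subtype.ext ?_⟩
    rw [Subgroup.coe_pow, Subgroup.coe_one]
    show (r ^ m) ^ 3 ^ k = 1
    rw [← zpow_natCast, ← zpow_mul, mul_comm, zpow_mul, zpow_natCast, hk, one_zpow])
  obtain ⟨x, hx⟩ := mem_ind.1 (h r (Subgroup.mem_zpowers r))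
  have h1 := Tr_conj H.three ht g
  rw [hx] at h1
  have h2 := (h1 (qb 1 0 0 0 0)).2
  rw [cj_c, qb_a, qb_c, mul_one, zero_add] at h2
  have h3 : g * r * g⁻¹ ∈ Inn (Qb K) := by rw [hx]; exact inn_of_b h2
  have h4 := (innNormal (Qb K)).conj_mem _ h3 g⁻¹
  have h5 : g⁻¹ * (g * r * g⁻¹) * g⁻¹⁻¹ = r := by group
  rwa [h5] at h4

/-- elements of `Γ` trivial on `Q_b / Z₃` and stabilizing the rest of the chain are inner -/
theorem inn_of_chain {r : MulAut (Qb K)} (hr : r ∈ Γ) (ht : Tr r)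
    (he : ∀ z : Qb K, Z z → ((r z : Qb K) : GU K).e = (z : GU K).e)
    (hf : ∀ z : Qb K, Z z → (z : GU K).e = 0 → ((r z : Qb K) : GU K).f = (z : GU K).f) : r ∈ Inn (Qb K) :=
  H.inn_of_pow hr ht (chain H.three ht he hf)

/-- every element of `K` is a cube -/
theorem exists_cube (t : K) : ∃ a : K, a ^ 3 = t := by
  have := H.fin
  have h3 := H.three
  have hinj : Function.Injective (fun a : K => a ^ 3) := by
    intro a b h
    have h1 : a ^ 3 = b ^ 3 := h
    have h2 : (a - b) ^ 3 = 0 := by linear_combination h1 + (a * b ^ 2 - a ^ 2 * b) * h3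
    exact sub_eq_zero.1 (pow_eq_zero_iff (by norm_num) |>.1 h2)
  exact (Finite.injective_iff_surjective.1 hinj) t

/-- cubes in `GU K` -/
theorem cube_GU (h : GU K) : h * h * h = ⟨0, 0, 0, -(h.a ^ 2 * h.b), 0, h.a ^ 3 * h.b ^ 2⟩ := by
  have h3 := H.three
  apply GU.ext
  · simp only [GU.mul_a]; linear_combination h.a * h3
  · simp only [GU.mul_b]; linear_combination h.b * h3
  · simp only [GU.mul_a, GU.mul_b, GU.mul_c]; linear_combination (h.c + h.a * h.b) * h3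
  · simp only [GU.mul_a, GU.mul_b, GU.mul_c, GU.mul_d]
    linear_combination (h.d + 2 * h.a * h.c + 2 * h.a ^ 2 * h.b) * h3
  · simp only [GU.mul_a, GU.mul_b, GU.mul_c, GU.mul_d, GU.mul_e]
    linear_combination (h.e + 3 * h.a * h.d + 5 * h.a ^ 2 * h.c + 3 * h.a ^ 3 * h.b) * h3
  · simp only [GU.mul_a, GU.mul_b, GU.mul_c, GU.mul_d, GU.mul_e, GU.mul_f]
    linear_combination (h.f + 3 * h.c * h.d - h.b * h.e + 13 * h.a * h.c ^ 2 - 4 * h.a * h.b * h.d +
      9 * h.a ^ 2 * h.b * h.c + h.a ^ 3 * h.b ^ 2) * h3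

/-- **elements of `Γ` normalizing `Aut_S(Q_b)` and trivial on `Q_b / Z₃` are inner** -/
theorem inn_of_norm {r : MulAut (Qb K)} (hr : r ∈ Γ) (ht : Tr r) (hn : NormAut ⊤ r) : r ∈ Inn (Qb K) := by
  have h3 := H.three
  obtain ⟨α, hα⟩ := H.ext r hr hn
  -- conjugation
  have hcj : ∀ (h : GU K) (g : Qb K), r (MulAut.conjNormal h g) = MulAut.conjNormal (α h) (r g) := by
    intro h g
    apply Subtype.ext
    rw [hα, MulAut.conjNormal_apply, MulAut.conjNormal_apply, hα, map_mul, map_mul, map_inv]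
  -- `b` is preserved
  have hb : ∀ h : GU K, (α h).b = h.b := by
    intro h
    have h1 := congrArg (fun x : Qb K => (x : GU K).c) (hcj h (qb 1 0 0 0 0))
    simp only [(ht _).2, cj_c, (ht _).1, qb_a, qb_c, zero_add, mul_one] at h1
    exact h1.symm
  -- `x_β(1)`
  obtain ⟨y, hy⟩ : ∃ y : GU K, y = ⟨0, 1, 0, 0, 0, 0⟩ := ⟨_, rfl⟩
  have hyb : (α y).b = 1 := by rw [hb, hy]
  have hya : (α y).a = 0 := by
    have h1 : α (y * y * y) = α y * α y * α y := by rw [map_mul, map_mul]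
    rw [H.cube_GU, H.cube_GU, hyb, hy] at h1
    have h2 : (⟨0, 0, 0, -((0 : K) ^ 2 * 1), 0, 0 ^ 3 * 1 ^ 2⟩ : GU K) = 1 := by
      apply GU.ext <;> simp
    simp only at h1
    rw [h2, map_one] at h1
    have h4 := congrArg GU.f h1
    simp only [GU.one_f] at h4
    have h5 : (α y).a ^ 3 = 0 := by rw [hy]; linear_combination -h4
    exact pow_eq_zero_iff (by norm_num) |>.1 h5
  -- `x_{3α+2β}(f)` is fixed
  have h6 : ∀ f : K, r (qb 0 0 0 0 f) = qb 0 0 0 0 f := by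
    intro f
    obtain ⟨a, rfl⟩ := H.exists_cube f
    obtain ⟨h, hh⟩ : ∃ h : GU K, h = ((qb a 0 0 0 0 : Qb K) : GU K) * y := ⟨_, rfl⟩
    have ha : h.a = a := by rw [hh, hy, GU.mul_a]; simp
    have hb1 : h.b = 1 := by rw [hh, hy, GU.mul_b]; simp
    have ha' : (α h).a = a := by
      rw [hh, map_mul, GU.mul_a, hya, ← hα, (ht _).1, qb_a, add_zero]
    have h7 : α (h * h * h) = h * h * h := by
      rw [map_mul, map_mul, H.cube_GU (α h), H.cube_GU h, ha', ha, hb, hb1]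
    have h8 : h * h * h = ((qb 0 0 (-a ^ 2) 0 (a ^ 3) : Qb K) : GU K) := by
      rw [H.cube_GU h, ha, hb1]
      apply GU.ext <;> simp
    rw [h8, ← hα] at h7
    have h9 : r (qb 0 0 (-a ^ 2) 0 (a ^ 3)) = qb 0 0 (-a ^ 2) 0 (a ^ 3) := Subtype.ext h7
    have h10 : (qb 0 0 (-a ^ 2) 0 (a ^ 3) : Qb K) = qb 0 0 (-a ^ 2) 0 0 * qb 0 0 0 0 (a ^ 3) := by
      apply qext
      · rw [ma]; simp
      · rw [mc]; simp
      · rw [md]; simp
      · rw [me h3]; simp
      · rw [mf h3]; simp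
    rw [h10, map_mul, x4_fix h3 ht] at h9
    exact mul_left_cancel h9
  refine H.inn_of_chain hr ht (fun z hz => ?_) fun z hz hze => ?_
  · have h7 : MulAut.conjNormal y z = z * qb 0 0 0 0 (z : GU K).e := by
      have hd : ((MulAut.conjNormal y z : Qb K) : GU K).d = (z : GU K).d := by
        rw [MulAut.conjNormal_apply, hy]
        simp only [GU.mul_d, GU.mul_c, GU.mul_b, GU.mul_a, GU.inv_a, GU.inv_b, GU.inv_c, GU.inv_d, gb, hz.1, hz.2]
        ring
      apply qext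
      · rw [cj_a, ma]; simp
      · rw [cj_c, mc, hz.1]; simp
      · rw [hd, md]; simp
      · rw [cj_e h3 _ hz, me h3]; simp
      · rw [cj_f h3 _ hz, mf h3, hy]; simp
    have h8 := hcj y z
    rw [h7, map_mul, h6] at h8
    have h9 := congrArg (fun x : Qb K => (x : GU K).f) h8
    simp only [mf h3, cj_f h3 _ (Z_map h3 r hz), hyb, qb_f, one_mul] at h9
    exact (add_left_cancel h9).symm
  · have h7 : z = qb 0 0 (z : GU K).d 0 0 * qb 0 0 0 0 (z : GU K).f := by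
      apply qext
      · rw [ma, hz.1]; simp
      · rw [mc, hz.2]; simp
      · rw [md]; simp
      · rw [me h3, hze]; simp
      · rw [mf h3]; simp
    have h8 : r z = z := by
      conv_lhs => rw [h7, map_mul, x4_fix h3 ht, h6]
      exact h7.symm
    rw [h8]

end Hy

end Cfsg.Agent.H428.GT
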