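import Cfsg.Agent.H428.GT.LbZero

/-!
# `StLb0` (helper428), for S5211, II
-/

set_option autoImplicit false
set_option linter.unusedSimpArgs false

namespace Cfsg.Agent.H428.GT

open Cfsg Cfsg.FusionSystem Cfsg.Agent.H756.PU Cfsg.Agent.H779.G2

universe u

variable {K : Type u} [Field K]

/-- the coordinates `e`, `f` -/
def ef (z : Qb K) : K × K := ((z : GU K).e, (z : GU K).f)

theorem ef_mul (h3 : (3 : K) = 0) (g h : Qb K) : ef (g * h) = ef g + ef h := by
  unfold ef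
  rw [me h3, mf h3]
  rfl

theorem qb_zero : (qb 0 0 0 0 0 : Qb K) = 1 := rfl

theorem Z_decomp (h3 : (3 : K) = 0) {z : Qb K} (hz : Z z) :
    z = qb 0 0 (z : GU K).d 0 0 * qb 0 0 0 (z : GU K).e (z : GU K).f := by
  apply qext
  · rw [ma, hz.1]; simp
  · rw [mc, hz.2]; simp
  · rw [md]; simp
  · rw [me h3]; simp
  · rw [mf h3]; simp

/-- the action on `Z₃ / X₄` -/
def act (h3 : (3 : K) = 0) (γ : MulAut (Qb K)) : AddMonoid.End (K × K) where
  toFun v := ef (γ (qb 0 0 0 v.1 v.2))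
  map_zero' := by
    show ef (γ (qb 0 0 0 0 0)) = 0
    rw [qb_zero, map_one]
    rfl
  map_add' v w := by
    have h1 : (qb 0 0 0 (v + w).1 (v + w).2 : Qb K) = qb 0 0 0 v.1 v.2 * qb 0 0 0 w.1 w.2 := by
      apply qext
      · rw [ma]; simp
      · rw [mc]; simp
      · rw [md]; simp
      · rw [me h3]; simp
      · rw [mf h3]; simp
    rw [h1, map_mul, ef_mul h3]

theorem act_apply (h3 : (3 : K) = 0) (γ : MulAut (Qb K)) (v : K × K) :
    act h3 γ v = ef (γ (qb 0 0 0 v.1 v.2)) := rfl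

theorem act_ef (h3 : (3 : K) = 0) (γ : MulAut (Qb K)) {z : Qb K} (hz : Z z) : act h3 γ (ef z) = ef (γ z) := by
  rw [act_apply]
  conv_rhs => rw [Z_decomp h3 hz, map_mul, ef_mul h3]
  obtain ⟨d', hd⟩ := x4_map h3 γ (z : GU K).d
  rw [hd]
  show _ = (0 : K × K) + _
  rw [zero_add]
  rfl

/-- the action on `Z₃ / X₄` as a homomorphism -/
def rho0 (h3 : (3 : K) = 0) : MulAut (Qb K) →* AddMonoid.End (K × K) where
  toFun := act h3
  map_one' := by
    ext1 v
    rfl
  map_mul' γ δ := by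
    ext1 v
    show ef (γ (δ (qb 0 0 0 v.1 v.2))) = act h3 γ (act h3 δ v)
    rw [act_apply h3 δ, act_ef h3 γ (Z_map h3 δ ⟨rfl, rfl⟩)]

/-- the action on `Z₃ / X₄` by units -/
def rho (h3 : (3 : K) = 0) : MulAut (Qb K) →* (AddMonoid.End (K × K))ˣ := (rho0 h3).toHomUnits

theorem rho_coe (h3 : (3 : K) = 0) (γ : MulAut (Qb K)) :
    ((rho h3 γ : (AddMonoid.End (K × K))ˣ) : AddMonoid.End (K × K)) = act h3 γ := rfl

theorem act_mul (h3 : (3 : K) = 0) (γ δ : MulAut (Qb K)) (v : K × K) : act h3 (γ * δ) v = act h3 γ (act h3 δ v) :=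
  DFunLike.congr_fun ((rho0 h3).map_mul γ δ) v

theorem act_inj (h3 : (3 : K) = 0) (γ : MulAut (Qb K)) {v : K × K} (h : act h3 γ v = 0) : v = 0 := by
  have h1 : act h3 (γ⁻¹ * γ) v = v := by
    rw [inv_mul_cancel]
    rfl
  rw [act_mul, h, map_zero] at h1
  exact h1.symm

theorem act_cj (h3 : (3 : K) = 0) (x : GU K) (v : K × K) :
    act h3 (MulAut.conjNormal x) v = (v.1, v.2 + x.b * v.1) := by
  have hz : Z (qb 0 0 0 v.1 v.2 : Qb K) := ⟨rfl, rfl⟩
  rw [act_apply]
  unfold ef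
  rw [cj_e h3 x hz, cj_f h3 x hz]
  rfl

theorem act_inn (h3 : (3 : K) = 0) {γ : MulAut (Qb K)} (h : γ ∈ Inn (Qb K)) (v : K × K) : act h3 γ v = v := by
  obtain ⟨x, rfl⟩ := h
  rw [act_apply, MulAut.conj_apply]
  have h1 := (Z_iff h3).1 (show Z (qb 0 0 0 v.1 v.2 : Qb K) from ⟨rfl, rfl⟩) x
  rw [← h1, mul_inv_cancel_right]
  rfl

namespace Hy

variable {Γ : Subgroup (MulAut (Qb K))} (H : Hy Γ)

include H

/-- elements trivial on `Q_b / Z₃` and on `Z₃ / X₄` are inner -/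
theorem inn_of_act {r : MulAut (Qb K)} (hr : r ∈ Γ) (ht : Tr r) (ha : ∀ v, act H.three r v = v) : r ∈ Inn (Qb K) := by
  have key : ∀ z : Qb K, Z z → ef (r z) = ef z := fun z hz => by rw [← act_ef H.three r hz, ha]
  exact H.inn_of_chain hr ht (fun z hz => congrArg Prod.fst (key z hz)) fun z hz _ => congrArg Prod.snd (key z hz)

/-- **elements of `Γ` trivial on `Q_b / Z₃` commuting with `x_β(1)` on `Z₃ / X₄` are inner** -/
theorem inn_of_comm {r : MulAut (Qb K)} (hr : r ∈ Γ) (ht : Tr r)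
    (hc : ∀ v : K × K, act H.three r (v.1, v.2 + v.1) = ((act H.three r v).1, (act H.three r v).2 + (act H.three r v).1)) :
    r ∈ Inn (Qb K) := by
  have h3 := H.three
  have star : ∀ v : K × K, act h3 r (0, v.1) = (0, (act h3 r v).1) := by
    intro v
    have h1 : act h3 r ((v.1, v.2 + v.1) - v) = act h3 r (v.1, v.2 + v.1) - act h3 r v := map_sub _ _ _
    rw [hc v] at h1
    have h2 : ((v.1, v.2 + v.1) - v : K × K) = (0, v.1) := by
      apply Prod.ext
      · simp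
      · simp
    rw [h2] at h1
    rw [h1]
    apply Prod.ext
    · simp
    · simp
  refine H.inn_of_norm hr ht fun y hy => ?_
  obtain ⟨x, rfl⟩ := mem_ind.1 hy
  obtain ⟨X, hX⟩ : ∃ X : MulAut (Qb K), X = MulAut.conjNormal x := ⟨_, rfl⟩
  rw [← hX] at hy ⊢
  -- the commutator
  obtain ⟨κ, hκ⟩ : ∃ κ : MulAut (Qb K), κ = r * (X * r⁻¹ * X⁻¹) := ⟨_, rfl⟩
  have hT : Tr κ := by
    rw [hκ]
    exact Tr_mul ht (Tr_conj h3 (Tr_inv ht) _)
  have hx : X ∈ Γ := H.indu hy
  have hm : κ ∈ Γ := by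
    rw [hκ]
    exact mul_mem hr (mul_mem (mul_mem hx (inv_mem hr)) (inv_mem hx))
  have hval : ∀ z : Qb K, Z z → ∃ w : K × K, (act h3 r w) = ((z : GU K).e, (z : GU K).f - x.b * (z : GU K).e) ∧
      ef (κ z) = act h3 r w + (0, (act h3 r (x.b * w.1, 0)).1) := by
    intro z hz
    obtain ⟨w, hw⟩ : ∃ w, w = act h3 r⁻¹ (act h3 X⁻¹ (ef z)) := ⟨_, rfl⟩
    have e0 : act h3 X⁻¹ (ef z) = ((z : GU K).e, (z : GU K).f - x.b * (z : GU K).e) := by
      rw [hX, ← map_inv, act_cj]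
      unfold ef
      apply Prod.ext
      · rfl
      · show _ + _ = _
        rw [GU.inv_b]
        ring
    have e1 : act h3 r w = ((z : GU K).e, (z : GU K).f - x.b * (z : GU K).e) := by
      rw [hw, ← act_mul, mul_inv_cancel, e0]
      rfl
    refine ⟨w, e1, ?_⟩
    rw [← act_ef h3 _ hz, hκ, act_mul, act_mul, act_mul, ← hw, hX, act_cj]
    have e2 : ((w.1, w.2 + x.b * w.1) : K × K) = w + (0, x.b * w.1) := by
      apply Prod.ext
      · simp
      · simp
    rw [e2, map_add]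
    congr 1
    exact star (x.b * w.1, 0)
  have hin : κ ∈ Inn (Qb K) := by
    refine H.inn_of_chain hm hT (fun z hz => ?_) fun z hz hze => ?_
    · obtain ⟨w, h1, h2⟩ := hval z hz
      have h4 := congrArg Prod.fst h2
      rw [h1] at h4
      simpa [ef] using h4
    · obtain ⟨w, h1, h2⟩ := hval z hz
      have h4 : (act h3 r w).1 = 0 := by rw [h1]; exact hze
      have h5 : w.1 = 0 := by
        have h6 := star w
        rw [h4] at h6
        have h7 := act_inj h3 r (v := (0, w.1)) h6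
        exact congrArg Prod.snd h7
      have h6 := congrArg Prod.snd h2
      rw [h1, h5, mul_zero] at h6
      have h7 : act h3 r (0, 0) = 0 := map_zero _
      rw [h7, hze] at h6
      simpa [ef] using h6
  have h4 : r * X * r⁻¹ = κ * X := by rw [hκ]; group
  rw [h4]
  exact mul_mem (inn_le_ind hin) hy

end Hy

end Cfsg.Agent.H428.GT
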